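import Mathlib.CategoryTheory.Functor.KanExtension.Pointwise
import Mathlib.CategoryTheory.Comma.Final
import Mathlib.CategoryTheory.Abelian.GrothendieckAxioms.Basic
import Mathlib.CategoryTheory.Abelian.FunctorCategory
import Mathlib.CategoryTheory.Preadditive.LeftExact

/-!
# Exactness of the Kan extension of an exact functor from finitely presentable objects
-/

set_option autoImplicit false
set_option linter.style.haveILetI false
set_option linter.unusedSectionVars false

universe v' u' u w w'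

open CategoryTheory CategoryTheory.Limits

namespace Groth.Agent.H8FSch.Kan

variable {C₀ : Type w} [Category.{u} C₀] [Abelian C₀] {C : Type w'} [Category.{u} C] [Abelian C]
  [HasFilteredColimitsOfSize.{u, u} C] [AB5OfSize.{u, u} C]
  (i : C₀ ⥤ C) [i.Additive] [PreservesFiniteLimits i] [PreservesFiniteColimits i]
  {A' : Type u'} [Category.{v'} A'] [Abelian A'] [HasFilteredColimitsOfSize.{u, u} A'] [AB5OfSize.{u, u} A']
  (G : C₀ ⥤ A') [G.Additive] [PreservesFiniteLimits G] [PreservesFiniteColimits G]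
  [i.HasPointwiseLeftKanExtension G]

/-- Filtered colimits of objects of `C₀` see the maps out of `C₀`. -/
structure Compact : Prop where
  surj : ∀ {J : Type u} [SmallCategory J] [IsFiltered J] {D : J ⥤ C₀} {c : Cocone (D ⋙ i)}, IsColimit c →
    ∀ {K : C₀} (a : i.obj K ⟶ c.pt), ∃ (j : J) (b : K ⟶ D.obj j), i.map b ≫ c.ι.app j = a
  inj : ∀ {J : Type u} [SmallCategory J] [IsFiltered J] {D : J ⥤ C₀} {c : Cocone (D ⋙ i)}, IsColimit c →
    ∀ {K : C₀} {j : J} (b b' : K ⟶ D.obj j), i.map b ≫ c.ι.app j = i.map b' ≫ c.ι.app j →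
      ∃ (k : J) (t : j ⟶ k), b ≫ D.map t = b' ≫ D.map t

/-- Every object is a filtered colimit of objects of `C₀`. -/
def HasPres : Prop :=
  ∀ M : C, ∃ (J : Type u) (_ : SmallCategory J) (_ : IsFiltered J) (D : J ⥤ C₀) (c : Cocone (D ⋙ i))
    (_ : IsColimit c), Nonempty (c.pt ≅ M)

variable {i}

/-- The functor into the comma category of a cocone. -/
def toArrows {J : Type u} [SmallCategory J] {D : J ⥤ C₀} (c : Cocone (D ⋙ i)) :
    J ⥤ CostructuredArrow i c.pt where
  obj j := CostructuredArrow.mk (c.ι.app j)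
  map {j k} t := CostructuredArrow.homMk (D.map t) (c.w t)

theorem final_toArrows (hc : Compact i) {J : Type u} [SmallCategory J] [IsFiltered J] {D : J ⥤ C₀}
    {c : Cocone (D ⋙ i)} (h : IsColimit c) : (toArrows c).Final := by
  refine Functor.final_of_exists_of_isFiltered _ (fun d => ?_) (fun {d j} s s' => ?_)
  · obtain ⟨j, b, hb⟩ := hc.surj h d.hom
    exact ⟨j, ⟨CostructuredArrow.homMk b hb⟩⟩
  · obtain ⟨k, t, ht⟩ := hc.inj h s.left s'.left ((CostructuredArrow.w s).trans (CostructuredArrow.w s').symm)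
    exact ⟨k, t, CostructuredArrow.hom_ext _ _ ht⟩

variable (i) in
/-- The colimit of a diagram in `C₀`, taken in `C`. -/
noncomputable abbrev Φ (J : Type u) [SmallCategory J] [IsFiltered J] : (J ⥤ C₀) ⥤ C :=
  (Functor.whiskeringRight J C₀ C).obj i ⋙ colim

/-- The colimit of the image of a diagram. -/
noncomputable abbrev Ψ (J : Type u) [SmallCategory J] [IsFiltered J] : (J ⥤ C₀) ⥤ A' :=
  (Functor.whiskeringRight J C₀ A').obj G ⋙ colim

/-- The cocone of a diagram under the Kan extension. -/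
noncomputable def kanCocone {J : Type u} [SmallCategory J] {D : J ⥤ C₀} (c : Cocone (D ⋙ i)) :
    Cocone (D ⋙ G) :=
  Cocone.whisker (toArrows c) (colimit.cocone (CostructuredArrow.proj i c.pt ⋙ G))

/-- The Kan extension computed by a presentation. -/
noncomputable def isColimitKanCocone (hc : Compact i) {J : Type u} [SmallCategory J] [IsFiltered J]
    {D : J ⥤ C₀} {c : Cocone (D ⋙ i)} (h : IsColimit c) : IsColimit (kanCocone G c) :=
  haveI := final_toArrows hc h
  (Functor.Final.isColimitWhiskerEquiv (toArrows c) _).symm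
    (colimit.isColimit _)

theorem ι_kan_map {M N : C} (f : M ⟶ N) {K : C₀} (a : i.obj K ⟶ M) :
    colimit.ι (CostructuredArrow.proj i M ⋙ G) (CostructuredArrow.mk a) ≫
        (i.pointwiseLeftKanExtension G).map f =
      colimit.ι (CostructuredArrow.proj i N ⋙ G) (CostructuredArrow.mk (a ≫ f)) :=
  colimit.ι_desc _ _

theorem ι_kan_eq {N : C} {K K' : C₀} (t : K ⟶ K') (a : i.obj K ⟶ N) (a' : i.obj K' ⟶ N)
    (h : i.map t ≫ a' = a) :
    G.map t ≫ colimit.ι (CostructuredArrow.proj i N ⋙ G) (CostructuredArrow.mk a') =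
      colimit.ι (CostructuredArrow.proj i N ⋙ G) (CostructuredArrow.mk a) :=
  colimit.w (CostructuredArrow.proj i N ⋙ G) (CostructuredArrow.homMk t h : CostructuredArrow.mk a ⟶ CostructuredArrow.mk a')

variable (i) in
/-- The comparison. -/
noncomputable def β (J : Type u) [SmallCategory J] [IsFiltered J] :
    Ψ G J ⟶ Φ i J ⋙ i.pointwiseLeftKanExtension G where
  app D := colimit.desc (D ⋙ G) (kanCocone G (colimit.cocone (D ⋙ i)))
  naturality D E η := colimit.hom_ext fun j => by
    show colimit.ι (D ⋙ G) j ≫ colimMap (Functor.whiskerRight η G) ≫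
        colimit.desc (E ⋙ G) (kanCocone G (colimit.cocone (E ⋙ i))) =
      colimit.ι (D ⋙ G) j ≫ colimit.desc (D ⋙ G) (kanCocone G (colimit.cocone (D ⋙ i))) ≫
        (i.pointwiseLeftKanExtension G).map (colimMap (Functor.whiskerRight η i))
    refine (ι_colimMap_assoc _ _ _).trans (Eq.trans ?_ (colimit.ι_desc_assoc _ _ _).symm)
    refine (congrArg ((Functor.whiskerRight η G).app j ≫ ·) (colimit.ι_desc _ _)).trans ?_
    refine Eq.trans ?_ (ι_kan_map G (colimMap (Functor.whiskerRight η i)) (colimit.ι (D ⋙ i) j)).symm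
    exact ι_kan_eq G (η.app j) _ _ (ι_colimMap (Functor.whiskerRight η i) j).symm

theorem isIso_β (hc : Compact i) (J : Type u) [SmallCategory J] [IsFiltered J] : IsIso (β i G J) := by
  haveI : ∀ D, IsIso ((β i G J).app D) := fun D => by
    exact ((colimit.isColimit (D ⋙ G)).coconePointUniqueUpToIso
      (isColimitKanCocone G hc (colimit.isColimit (D ⋙ i)))).isIso_hom
  exact NatIso.isIso_of_isIso_app _

/-- The Kan extension is additive. -/
theorem additive_kan : (i.pointwiseLeftKanExtension G).Additive := ⟨fun {M N f g} => by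
  refine colimit.hom_ext fun p => ?_
  obtain ⟨K, ⟨⟩, a⟩ := p
  refine (ι_kan_map G (f + g) a).trans ((Eq.trans ?_
    (congrArg₂ (· + ·) (ι_kan_map G f a) (ι_kan_map G g a)).symm).trans (Preadditive.comp_add _ _ _ _ _ _).symm)
  let γ : i.obj (K ⊞ K) ⟶ N := i.map biprod.fst ≫ a ≫ f + i.map biprod.snd ≫ a ≫ g
  rw [← ι_kan_eq G (biprod.inl : K ⟶ K ⊞ K) (a ≫ f) γ (by simp [γ, ← Functor.map_comp_assoc]),
    ← ι_kan_eq G (biprod.inr : K ⟶ K ⊞ K) (a ≫ g) γ (by simp [γ, ← Functor.map_comp_assoc]),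
    ← ι_kan_eq G (biprod.inl + biprod.inr : K ⟶ K ⊞ K) (a ≫ (f + g)) γ
      (by simp [γ, ← Functor.map_comp_assoc, Preadditive.add_comp]),
    G.map_add]
  exact Preadditive.add_comp _ _ _ _ _ _⟩

/-- Every morphism is a colimit of morphisms of `C₀`. -/
theorem exists_arrow (hc : Compact i) (hp : HasPres i) {M N : C} (f : M ⟶ N) :
    ∃ (J : Type u) (_ : SmallCategory J) (_ : IsFiltered J) (D E : J ⥤ C₀) (η : D ⟶ E)
      (e₁ : (Φ i J).obj D ≅ M) (e₂ : (Φ i J).obj E ≅ N), (Φ i J).map η ≫ e₂.hom = e₁.hom ≫ f := by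
  obtain ⟨J₁, _, _, D, c, hcc, ⟨eM⟩⟩ := hp M
  obtain ⟨J₂, _, _, E, d, hdd, ⟨eN⟩⟩ := hp N
  let L : J₁ ⥤ CostructuredArrow i d.pt := toArrows c ⋙ CostructuredArrow.map (eM.hom ≫ f ≫ eN.inv)
  let R : J₂ ⥤ CostructuredArrow i d.pt := toArrows d
  haveI : R.Final := final_toArrows hc hdd
  let η : Comma.fst L R ⋙ D ⟶ Comma.snd L R ⋙ E :=
    { app := fun x => x.hom.left
      naturality := fun x y t => congrArg CommaMorphism.left t.w }
  let hD := (Functor.Final.isColimitWhiskerEquiv (Comma.fst L R) c).symm hcc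
  let hE := (Functor.Final.isColimitWhiskerEquiv (Comma.snd L R) d).symm hdd
  let u₁ := (colimit.isColimit ((Comma.fst L R ⋙ D) ⋙ i)).coconePointUniqueUpToIso hD
  let u₂ := (colimit.isColimit ((Comma.snd L R ⋙ E) ⋙ i)).coconePointUniqueUpToIso hE
  refine ⟨Comma L R, inferInstance, inferInstance, _, _, η, u₁ ≪≫ eM, u₂ ≪≫ eN,
    colimit.hom_ext fun x => ?_⟩
  have hw : i.map x.hom.left ≫ d.ι.app x.right = c.ι.app x.left ≫ eM.hom ≫ f ≫ eN.inv :=
    CostructuredArrow.w x.hom
  have h₁ : colimit.ι ((Comma.fst L R ⋙ D) ⋙ i) x ≫ u₁.hom = c.ι.app x.left :=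
    IsColimit.comp_coconePointUniqueUpToIso_hom (colimit.isColimit ((Comma.fst L R ⋙ D) ⋙ i)) hD x
  have h₂ : colimit.ι ((Comma.snd L R ⋙ E) ⋙ i) x ≫ u₂.hom = d.ι.app x.right :=
    IsColimit.comp_coconePointUniqueUpToIso_hom (colimit.isColimit ((Comma.snd L R ⋙ E) ⋙ i)) hE x
  show colimit.ι ((Comma.fst L R ⋙ D) ⋙ i) x ≫ colimMap (Functor.whiskerRight η i) ≫ u₂.hom ≫ eN.hom =
    colimit.ι ((Comma.fst L R ⋙ D) ⋙ i) x ≫ (u₁.hom ≫ eM.hom) ≫ f
  refine (ι_colimMap_assoc _ _ _).trans (((congrArg (i.map x.hom.left ≫ ·) ((Category.assoc _ _ _).symm.trans (congrArg (· ≫ eN.hom) h₂))).trans ?_).trans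
    ((congrArg (_ ≫ ·) (Category.assoc _ _ _)).trans ((Category.assoc _ _ _).symm.trans (congrArg (· ≫ eM.hom ≫ f) h₁))).symm)
  show i.map x.hom.left ≫ d.ι.app x.right ≫ eN.hom = c.ι.app x.left ≫ eM.hom ≫ f
  rw [← Category.assoc, hw]
  exact (Category.assoc _ _ _).trans (congrArg (c.ι.app x.left ≫ ·) ((Category.assoc _ _ _).trans
    (congrArg (eM.hom ≫ ·) ((Category.assoc _ _ _).trans ((congrArg (f ≫ ·) eN.inv_hom_id).trans (Category.comp_id f))))))

theorem preservesKernels (hc : Compact i) (hp : HasPres i) {M N : C} (f : M ⟶ N) :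
    PreservesLimit (parallelPair f 0) (i.pointwiseLeftKanExtension G) := by
  obtain ⟨J, _, _, D, E, η, e₁, e₂, he⟩ := exists_arrow hc hp f
  haveI := isIso_β G hc J
  haveI : PreservesLimit (parallelPair η 0) (Φ i J ⋙ i.pointwiseLeftKanExtension G) :=
    preservesLimit_of_natIso _ (asIso (β i G J))
  haveI : (Φ i J).Additive := Functor.additive_of_preserves_binary_products _
  haveI : PreservesLimit (parallelPair η 0 ⋙ Φ i J) (i.pointwiseLeftKanExtension G) :=
    preservesLimit_of_preserves_limit_cone (isLimitOfPreserves (Φ i J) (limit.isLimit (parallelPair η 0)))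
      (isLimitOfPreserves (Φ i J ⋙ i.pointwiseLeftKanExtension G) (limit.isLimit (parallelPair η 0)))
  exact preservesLimit_of_iso_diagram _
    (diagramIsoParallelPair _ ≪≫ parallelPair.ext e₁ e₂ he (show (Φ i J).map (0 : D ⟶ E) ≫ e₂.hom = e₁.hom ≫ (0 : M ⟶ N) by
      rw [Functor.map_zero, zero_comp, comp_zero]) :
      parallelPair η 0 ⋙ Φ i J ≅ parallelPair f 0)

theorem preservesCokernels (hc : Compact i) (hp : HasPres i) {M N : C} (f : M ⟶ N) :
    PreservesColimit (parallelPair f 0) (i.pointwiseLeftKanExtension G) := by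
  obtain ⟨J, _, _, D, E, η, e₁, e₂, he⟩ := exists_arrow hc hp f
  haveI := isIso_β G hc J
  haveI : PreservesColimit (parallelPair η 0) (Φ i J ⋙ i.pointwiseLeftKanExtension G) :=
    preservesColimit_of_natIso _ (asIso (β i G J))
  haveI : (Φ i J).Additive := Functor.additive_of_preserves_binary_products _
  haveI : PreservesColimit (parallelPair η 0 ⋙ Φ i J) (i.pointwiseLeftKanExtension G) :=
    preservesColimit_of_preserves_colimit_cocone
      (isColimitOfPreserves (Φ i J) (colimit.isColimit (parallelPair η 0)))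
      (isColimitOfPreserves (Φ i J ⋙ i.pointwiseLeftKanExtension G) (colimit.isColimit (parallelPair η 0)))
  exact preservesColimit_of_iso_diagram _
    (diagramIsoParallelPair _ ≪≫ parallelPair.ext e₁ e₂ he (show (Φ i J).map (0 : D ⟶ E) ≫ e₂.hom = e₁.hom ≫ (0 : M ⟶ N) by
      rw [Functor.map_zero, zero_comp, comp_zero]) :
      parallelPair η 0 ⋙ Φ i J ≅ parallelPair f 0)

/-- The Kan extension of an exact functor is exact. -/
theorem main (hc : Compact i) (hp : HasPres i) :
    PreservesFiniteLimits (i.pointwiseLeftKanExtension G) ∧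
      PreservesFiniteColimits (i.pointwiseLeftKanExtension G) := by
  haveI := additive_kan (i := i) G
  haveI : ∀ {M N : C} (f : M ⟶ N), PreservesLimit (parallelPair f 0) (i.pointwiseLeftKanExtension G) :=
    fun f => preservesKernels G hc hp f
  haveI : ∀ {M N : C} (f : M ⟶ N), PreservesColimit (parallelPair f 0) (i.pointwiseLeftKanExtension G) :=
    fun f => preservesCokernels G hc hp f
  exact ⟨Functor.preservesFiniteLimits_of_preservesKernels _,
    Functor.preservesFiniteColimits_of_preservesCokernels _⟩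

end Groth.Agent.H8FSch.Kan
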