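import Groth.Agent.H8FSch.Kan.Abstract
import Groth.Agent.H8FSch.Compact
import Groth.Agent.H8FSch.IndGroth
import Groth.Agent.H8FSch.WeakSerre
import Groth.Agent.H8FSch.GlobalSum

/-!
# Exactness of the extension of an exact functor from coherent to ind-coherent modules
-/

set_option autoImplicit false
set_option linter.style.haveILetI false
set_option linter.unusedSectionVars false
set_option backward.isDefEq.respectTransparency false

universe v' u' u

attribute [-instance] CategoryTheory.catToReflQuiver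

open AlgebraicGeometry CategoryTheory CategoryTheory.Limits TopologicalSpace Opposite

namespace Groth.Agent.H8FSch.Kan

attribute [local instance 10000] H15Site.SiteInst.hasSheafifySite H15Site.SiteInst.hasWeakSheafifySite

open H15Site

/-- Two maps from a finitely generated module which agree in a filtered colimit agree at a stage. -/
theorem exists_eq_stage {T : Type u} [TopologicalSpace T] [NoetherianSpace T]
    {O : Sheaf (Opens.grothendieckTopology T) CommRingCat.{u}} {Λ : Type u} [SmallCategory Λ] [IsFiltered Λ]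
    {F : ModSite.Mod O} [SheafOfModules.IsFiniteType (R := ModSite.ringSh O) F]
    {D : Λ ⥤ ModSite.Mod O} {c : Cocone D} (hc : IsColimit c) {i : Λ} (φ ψ : F ⟶ D.obj i)
    (h : φ ≫ c.ι.app i = ψ ≫ c.ι.app i) : ∃ (k : Λ) (t : i ⟶ k), φ ≫ D.map t = ψ ≫ D.map t := by
  obtain ⟨S, hS, hS'⟩ := LocHom.exists_local_eq hc ((ModSite.restr O (⊤ : Opens T)).map φ)
    ((ModSite.restr O (⊤ : Opens T)).map ψ) (by rw [← Functor.map_comp, ← Functor.map_comp, h])
  obtain ⟨n, V, g, hg, hV⟩ := exists_finite_cover hS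
  choose j e he using fun a => hS' (g a) (hg a)
  obtain ⟨k, t, ht⟩ := exists_coeq i j e
  refine ⟨k, t, HomGlue.hom_ext_coversTop (coversTop_of_cover (V := V) fun x => hV x trivial) fun a => ?_⟩
  obtain ⟨h', hh'⟩ := ht a
  have e' := congrArg (fun χ => χ ≫ (ModSite.restr O (V a)).map (D.map h')) (he a)
  simp only [SitePerfLift.tr_map, Category.assoc, ← Functor.map_comp] at e'
  rwa [hh'] at e'

/-- The inclusion of a class closed under kernels, cokernels and finite products is exact. -/
theorem exact_ι {C : Type*} [Category C] [Abelian C] (P : ObjectProperty C) [P.ContainsZero]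
    [P.IsClosedUnderKernels] [P.IsClosedUnderCokernels] [P.IsClosedUnderFiniteProducts] :
    PreservesFiniteLimits P.ι ∧ PreservesFiniteColimits P.ι := by
  haveI := P.preservesKernels_ι
  haveI := P.preservesCokernels_ι
  exact ⟨Functor.preservesFiniteLimits_of_preservesKernels _,
    Functor.preservesFiniteColimits_of_preservesCokernels _⟩

theorem additive_of_exact {C D : Type*} [Category C] [Category D] [Abelian C] [Abelian D] (F : C ⥤ D)
    [PreservesFiniteLimits F] : F.Additive := Functor.additive_of_preserves_binary_products _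

/-- The inclusion of one exact subcategory into another is exact. -/
theorem exact_ιOfLE {C : Type*} [Category C] [Abelian C] {Q P : ObjectProperty C} (h : Q ≤ P)
    [PreservesFiniteLimits Q.ι] [PreservesFiniteColimits Q.ι] :
    PreservesFiniteLimits (ObjectProperty.ιOfLE h) ∧ PreservesFiniteColimits (ObjectProperty.ιOfLE h) := by
  haveI : ReflectsFiniteLimits P.ι := ⟨fun _ _ _ => inferInstance⟩
  haveI : ReflectsFiniteColimits P.ι := { reflects := fun _ _ _ => inferInstance }
  haveI : PreservesFiniteLimits (ObjectProperty.ιOfLE h ⋙ P.ι) :=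
    preservesFiniteLimits_of_natIso (ObjectProperty.ιOfLECompιIso h).symm
  haveI : PreservesFiniteColimits (ObjectProperty.ιOfLE h ⋙ P.ι) :=
    preservesFiniteColimits_of_natIso (ObjectProperty.ιOfLECompιIso h).symm
  exact ⟨preservesFiniteLimits_of_reflects_of_preserves _ P.ι, preservesFiniteColimits_of_reflects_of_preserves _ P.ι⟩

theorem exact_pointwiseKan (𝔛 : FSch.Sys.{u}) (hL : 𝔛.IsLocNoethFormal) [CompactSpace (𝔛.X 0)]
    [(Coh 𝔛 hL.1).ContainsZero] [(Coh 𝔛 hL.1).IsClosedUnderKernels]
    [(Coh 𝔛 hL.1).IsClosedUnderCokernels] [(Coh 𝔛 hL.1).IsClosedUnderFiniteProducts]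
    {A' : Type u'} [Category.{v'} A'] [Abelian A'] [HasFilteredColimitsOfSize.{u, u} A'] [AB5OfSize.{u, u} A']
    (G : (Coh 𝔛 hL.1).FullSubcategory ⥤ A') [PreservesFiniteLimits G] [PreservesFiniteColimits G]
    [(ObjectProperty.ιOfLE (ObjectProperty.le_ind.{u} (Coh 𝔛 hL.1))).HasPointwiseLeftKanExtension G] :
    PreservesFiniteLimits ((ObjectProperty.ιOfLE (ObjectProperty.le_ind.{u} (Coh 𝔛 hL.1))).pointwiseLeftKanExtension G) ∧
      PreservesFiniteColimits
        ((ObjectProperty.ιOfLE (ObjectProperty.le_ind.{u} (Coh 𝔛 hL.1))).pointwiseLeftKanExtension G) := by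
  haveI := hL.2.2 0
  haveI : IsNoetherian (𝔛.X 0) := ⟨⟩
  haveI : NoetherianSpace (𝔛.X 0) := inferInstance
  let P := ObjectProperty.ind.{u} (Coh 𝔛 hL.1)
  let h := ObjectProperty.le_ind.{u} (Coh 𝔛 hL.1)
  haveI : WSerre.IsWeakSerre P := isWeakSerre_ind hL
  haveI : P.ι.IsLeftAdjoint := isLeftAdjoint_ι' hL
  haveI : P.IsClosedUnderFiniteProducts := inferInstance
  obtain ⟨_, _⟩ := exact_ι (Coh 𝔛 hL.1)
  obtain ⟨_, _⟩ := exact_ι P
  obtain ⟨_, _⟩ := exact_ιOfLE h
  haveI := H10Coh.isGrothendieckAbelian_sheafOfModules (ModSite.ringSh (𝔛.Osh hL.1))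
  haveI := essentiallySmall_coh 𝔛 hL.1
  haveI := IndGroth.isGrothendieckAbelian (Coh 𝔛 hL.1)
  haveI : (ObjectProperty.ιOfLE h).Additive := ⟨fun {_ _ _ _} => rfl⟩
  haveI : G.Additive := additive_of_exact G
  haveI : HasColimitsOfSize.{u, u} P.FullSubcategory := IsGrothendieckAbelian.hasColimits _
  haveI : HasFilteredColimitsOfSize.{u, u} P.FullSubcategory := ⟨fun _ _ _ => inferInstance⟩
  haveI := Adjunction.leftAdjoint_preservesColimits.{u, u} (Adjunction.ofIsLeftAdjoint P.ι)
  refine main G ⟨?_, ?_⟩ ?_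
  · intro J _ _ D c hc K a
    haveI : SheafOfModules.IsFinitePresentation (R := ModSite.ringSh (𝔛.Osh hL.1))
      ((ObjectProperty.ιOfLE h).obj K).obj := K.property
    obtain ⟨j, b, hb⟩ := exists_lift (isColimitOfPreserves P.ι hc) a.hom
    exact ⟨j, ObjectProperty.homMk b, ObjectProperty.hom_ext _ hb⟩
  · intro J _ _ D c hc K j b b' hb
    haveI : SheafOfModules.IsFinitePresentation (R := ModSite.ringSh (𝔛.Osh hL.1)) K.obj := K.property
    haveI : SheafOfModules.IsFiniteType (R := ModSite.ringSh (𝔛.Osh hL.1)) K.obj := inferInstance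
    obtain ⟨k, t, ht⟩ := exists_eq_stage (isColimitOfPreserves P.ι hc) b.hom b'.hom (congrArg (·.hom) hb)
    exact ⟨k, t, ObjectProperty.hom_ext _ ht⟩
  · intro M
    obtain ⟨J, _, _, pres, hp⟩ := M.property
    let D := (Coh 𝔛 hL.1).lift pres.diag hp
    let c : Cocone (D ⋙ ObjectProperty.ιOfLE h) :=
      { pt := M
        ι := { app := fun j => ObjectProperty.homMk (pres.ι.app j)
               naturality := fun j k t => ObjectProperty.hom_ext _ (pres.ι.naturality t) } }
    refine ⟨J, inferInstance, inferInstance, D, c, isColimitOfReflects P.ι ?_, ⟨Iso.refl _⟩⟩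
    exact pres.isColimit.ofIsoColimit (Cocone.ext (Iso.refl _))

end Groth.Agent.H8FSch.Kan
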